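import Mathlib.Algebra.Lie.OfAssociative
import Groth.Prelude.Def_PLie

/-!
# Basic lemmas on restricted Lie algebras
-/

set_option autoImplicit false

universe u v w

namespace Groth.Agent.Lib.PLie.Basic

variable {R : Type u} [CommRing R] {p : ℕ} [CharP R p]
  {L : Type v} [LieRing L] [LieAlgebra R L] {L' : Type w} [LieRing L'] [LieAlgebra R L']

omit [CharP R p] in
lemma map_ad_pow (f : L →ₗ⁅R⁆ L') (n : ℕ) (x z : L) :
    f ((LieAlgebra.ad R L x ^ n) z) = (LieAlgebra.ad R L' (f x) ^ n) (f z) := by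
  induction n with
  | zero => simp
  | succ n ih =>
    rw [pow_succ', pow_succ', Module.End.mul_apply, Module.End.mul_apply, LieAlgebra.ad_apply,
      LieAlgebra.ad_apply, LieHom.map_lie, ih]

omit [CharP R p] in
lemma map_bracketWord (f : L →ₗ⁅R⁆ L') {ι : Type*} (x : ι → L) (x₁ : L) (w : List ι) :
    f (PLie.bracketWord x x₁ w) = PLie.bracketWord (fun i => f (x i)) (f x₁) w := by
  induction w with
  | nil => rfl
  | cons i w ih => simp [ih]

lemma map_jacobson (f : L →ₗ⁅R⁆ L') (x₀ x₁ : L) :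
    f (PLie.jacobson R p x₀ x₁) = PLie.jacobson R p (f x₀) (f x₁) := by
  unfold PLie.jacobson
  rw [← LieHom.coe_toLinearMap, map_sum]
  refine Finset.sum_congr rfl fun t _ => ?_
  rw [map_smul, LieHom.coe_toLinearMap, map_bracketWord]
  congr 2
  funext b
  cases b <;> rfl

lemma jacobson_zero_right (x₀ : L) : PLie.jacobson R p x₀ (0 : L) = 0 := by
  refine Finset.sum_eq_zero fun t _ => ?_
  rw [show PLie.bracketWord (PLie.pair x₀ (0 : L)) 0 (List.ofFn t) = 0 from ?_, smul_zero]
  induction (List.ofFn t) with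
  | nil => rfl
  | cons i w ih => simp [ih]

variable [hp : Fact p.Prime] (φ : PLie.PMap R p L)

lemma map_zero' : φ 0 = 0 := by
  have h := φ.map_smul 0 0
  rw [zero_smul, zero_pow hp.out.ne_zero, zero_smul] at h
  exact h

omit hp in
lemma lie_map (x z : L) : ⁅φ x, z⁆ = (LieAlgebra.ad R L x ^ p) z := by
  rw [← φ.ad_map x]; rfl

include hp in
omit [CharP R p] in
lemma ad_pow_pred (x z : L) :
    (LieAlgebra.ad R L x ^ p) z = (LieAlgebra.ad R L x ^ (p - 1)) ⁅x, z⁆ := by
  conv_lhs => rw [← Nat.sub_add_cancel hp.out.one_le, pow_succ]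
  rfl

lemma map_iterate_ad (x : L) (n : ℕ) :
    LieAlgebra.ad R L (φ.toFun^[n] x) = LieAlgebra.ad R L x ^ (p ^ n) := by
  induction n with
  | zero => simp
  | succ n ih => rw [Function.iterate_succ_apply', φ.ad_map, ih, ← pow_mul, pow_succ]

omit hp in
lemma ext_fun {φ ψ : PLie.PMap R p L} (h : ∀ x, φ x = ψ x) : φ = ψ := by
  cases φ; cases ψ
  congr
  exact funext h

lemma eq_of_eq_on_basis {ι : Type*} (b : Module.Basis ι R L) {φ ψ : PLie.PMap R p L}
    (h : ∀ i, φ (b i) = ψ (b i)) : φ = ψ := by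
  refine ext_fun fun x => ?_
  induction b.mem_span x using Submodule.span_induction with
  | mem y hy => obtain ⟨i, rfl⟩ := hy; exact h i
  | zero => rw [map_zero', map_zero']
  | add y z _ _ hy hz => rw [φ.map_add, ψ.map_add, hy, hz]
  | smul c y _ hy => rw [φ.map_smul, ψ.map_smul, hy]

end Groth.Agent.Lib.PLie.Basic
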