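import Mathlib.Algebra.Lie.OfAssociative
import Mathlib.Algebra.Polynomial.Derivative
import Mathlib.Algebra.Polynomial.AlgebraMap
import Mathlib.Algebra.Polynomial.Eval.Degree
import Mathlib.Algebra.Ring.GeomSum
import Mathlib.Algebra.Polynomial.Degree.Lemmas
import Mathlib.Data.Fin.Tuple.Basic
import Mathlib.Data.Nat.Choose.Dvd
import Mathlib.Algebra.Field.ZMod
import Mathlib.Tactic.Abel
import Groth.Prelude.Def_PLie

/-!
# Jacobson's formula

In an associative algebra over a ring of prime characteristic `p`,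
`(x₀ + x₁)^p = x₀^p + x₁^p - PLie.jacobson R p x₀ x₁` for the commutator bracket (`pow_add`), and
`(ad x)^p = ad (x^p)` (`bracket_pow`).
-/

set_option autoImplicit false

universe u w

open Polynomial

namespace Groth.Agent.Lib.PLie.Jacobson

section Binomial

variable {S : Type w} [Ring S] {p : ℕ} [hp : Fact p.Prime]

lemma choose_pred_cast (h : (p : S) = 0) :
    ∀ i : ℕ, i ≤ p - 1 → ((p - 1).choose i : S) = (-1) ^ i := by
  intro i
  induction i with
  | zero => simp
  | succ i ih =>
    intro hi
    have h0 := hp.out.two_le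
    obtain ⟨k, hk⟩ := hp.out.dvd_choose_self (Nat.succ_ne_zero i) (by omega : i + 1 < p)
    have h1 : (p.choose (i + 1) : S) = 0 := by rw [hk, Nat.cast_mul, h, zero_mul]
    obtain ⟨q, hq⟩ : ∃ q, p = q + 1 := ⟨p - 1, by omega⟩
    subst hq
    rw [Nat.choose_succ_succ, Nat.cast_add] at h1
    simp only [Nat.add_sub_cancel] at ih hi ⊢
    rw [ih (by omega)] at h1
    rw [eq_neg_of_add_eq_zero_right h1, pow_succ]
    simp

lemma neg_one_pow_pred (h : (p : S) = 0) : ((-1) ^ (p - 1) : S) = 1 := by
  simpa using (choose_pred_cast h (p - 1) le_rfl).symm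

lemma sub_pow_pred (h : (p : S) = 0) {x y : S} (hxy : Commute x y) :
    (x - y) ^ (p - 1) = ∑ i ∈ Finset.range p, x ^ i * y ^ (p - 1 - i) := by
  have h0 := hp.out.two_le
  rw [sub_eq_add_neg, hxy.neg_right.add_pow, Nat.sub_add_cancel (by omega)]
  refine Finset.sum_congr rfl fun i hi => ?_
  rw [Finset.mem_range] at hi
  have hi' : i ≤ p - 1 := by omega
  rw [choose_pred_cast h i hi', neg_pow, mul_assoc, mul_assoc,
    ← ((Commute.neg_one_left (y ^ (p - 1 - i))).pow_left i).eq, ← mul_assoc ((-1 : S) ^ _),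
    ← pow_add, Nat.sub_add_cancel hi', neg_one_pow_pred h, one_mul]

lemma sub_pow_self (h : (p : S) = 0) {x y : S} (hxy : Commute x y) :
    (x - y) ^ p = x ^ p - y ^ p := by
  obtain ⟨q, hq⟩ : ∃ q, p = q + 1 := ⟨p - 1, by have := hp.out.two_le; omega⟩
  have h1 := sub_pow_pred h hxy
  have h2 : (x - y) * ∑ i ∈ Finset.range p, x ^ i * y ^ (p - 1 - i) = x ^ p - y ^ p :=
    hxy.mul_geom_sum₂ p
  rw [← h1, ← pow_succ', Nat.sub_add_cancel hp.out.one_le] at h2
  exact h2

end Binomial

variable {R : Type u} [CommRing R] {p : ℕ} [hp : Fact p.Prime] [CharP R p]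
  {A : Type w} [Ring A] [Algebra R A]

attribute [local instance 100] LieRing.ofAssociativeRing

variable (R p) in
omit hp in
lemma natCast_eq_zero {B : Type w} [Ring B] [Algebra R B] : (p : B) = 0 := by
  rw [← map_natCast (algebraMap R B) p, CharP.cast_eq_zero, map_zero]

variable (R p) in
lemma ad_pow_apply (u z : A) :
    (LieAlgebra.ad R A u ^ (p - 1)) z = ∑ i ∈ Finset.range p, u ^ i * z * u ^ (p - 1 - i) := by
  rw [LieAlgebra.ad_eq_lmul_left_sub_lmul_right, Pi.sub_apply,
    sub_pow_pred (natCast_eq_zero R p) (LinearMap.commute_mulLeft_right u u), LinearMap.sum_apply]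
  refine Finset.sum_congr rfl fun i _ => ?_
  rw [Module.End.mul_apply, LinearMap.pow_mulLeft, LinearMap.pow_mulRight,
    LinearMap.mulLeft_apply, LinearMap.mulRight_apply, mul_assoc]

variable (R p) in
lemma bracket_pow (u z : A) : (LieAlgebra.ad R A u ^ p) z = u ^ p * z - z * u ^ p := by
  rw [LieAlgebra.ad_eq_lmul_left_sub_lmul_right, Pi.sub_apply,
    sub_pow_self (natCast_eq_zero R p) (LinearMap.commute_mulLeft_right u u), LinearMap.sub_apply,
    LinearMap.pow_mulLeft, LinearMap.pow_mulRight]
  rfl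

section Formula

variable (x₀ x₁ : A)

/-- number of indices sent to `true` -/
def trues {n : ℕ} (t : Fin n → Bool) : ℕ := ∑ i, (t i).toNat

lemma trues_cons {n : ℕ} (b : Bool) (t : Fin n → Bool) :
    trues (Fin.cons b t : Fin (n + 1) → Bool) = b.toNat + trues t := by
  simp [trues, Fin.sum_univ_succ]

lemma card_false_add_trues {n : ℕ} (t : Fin n → Bool) :
    Fintype.card {i // t i = false} + trues t = n := by
  rw [Fintype.card_subtype, Finset.card_filter, trues, ← Finset.sum_add_distrib]
  rw [Finset.sum_congr rfl (g := fun _ => 1) fun i _ => by cases t i <;> simp]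
  simp

variable (R) in
lemma iter (n : ℕ) :
    (LieAlgebra.ad R A[X] (C x₀ + C x₁ * X) ^ n) (C x₁) =
      ∑ t : Fin n → Bool,
        monomial (trues t) (PLie.bracketWord (PLie.pair x₀ x₁) x₁ (List.ofFn t)) := by
  induction n with
  | zero => simp [trues, monomial_zero_left]
  | succ n ih =>
    rw [pow_succ', Module.End.mul_apply, ih, map_sum,
      ← (Fin.consEquiv fun _ : Fin (n + 1) => Bool).sum_comp, Fintype.sum_prod_type, Finset.sum_comm]
    refine Finset.sum_congr rfl fun t _ => ?_
    simp only [Fin.consEquiv, Equiv.coe_fn_mk, trues_cons, List.ofFn_succ, Fin.cons_zero, Fin.cons_succ,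
      PLie.bracketWord_cons, Fintype.sum_bool, Bool.toNat_true, Bool.toNat_false]
    simp only [PLie.pair, if_true, Bool.false_eq_true, if_false]
    rw [LieAlgebra.ad_apply, LieRing.of_associative_ring_bracket,
      LieRing.of_associative_ring_bracket, LieRing.of_associative_ring_bracket, C_mul_X_eq_monomial,
      ← monomial_zero_left]
    simp only [add_mul, mul_add, monomial_mul_monomial, map_sub, zero_add, add_zero,
      add_comm (trues t) 1]
    abel

variable (R) in
lemma derivative_pow_eq :
    derivative ((C x₀ + C x₁ * X) ^ p) =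
      (LieAlgebra.ad R A[X] (C x₀ + C x₁ * X) ^ (p - 1)) (C x₁) := by
  rw [ad_pow_apply]
  set Q := C x₀ + C x₁ * X with hQ
  have hd : derivative Q = C x₁ := by simp [hQ]
  suffices h : ∀ n, derivative (Q ^ n) = ∑ i ∈ Finset.range n, Q ^ i * C x₁ * Q ^ (n - 1 - i) from
    h p
  intro n
  induction n with
  | zero => simp
  | succ n ih =>
    rw [pow_succ', derivative_mul, hd, ih, Finset.sum_range_succ' _ n, pow_zero, one_mul,
      Nat.add_sub_cancel, Nat.sub_zero, add_comm (C x₁ * Q ^ n), Finset.mul_sum]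
    congr 1
    refine Finset.sum_congr rfl fun i _ => ?_
    rw [pow_succ', mul_assoc, mul_assoc, mul_assoc]
    congr 4
    omega

variable (R p) in
/-- Jacobson's formula -/
theorem pow_add_eq : (x₀ + x₁) ^ p = x₀ ^ p + x₁ ^ p - PLie.jacobson R p x₀ x₁ := by
  classical
  have h2 := hp.out.two_le
  set Q := C x₀ + C x₁ * X with hQ
  have hdeg : Q.natDegree ≤ 1 := by
    refine natDegree_add_le_of_degree_le (by simp) ?_
    exact natDegree_mul_le.trans (by rw [natDegree_C, zero_add]; exact natDegree_X_le)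
  have hdegp : (Q ^ p).natDegree < p + 1 := by
    have := natDegree_pow_le (p := Q) (n := p)
    calc (Q ^ p).natDegree ≤ p * Q.natDegree := this
      _ ≤ p * 1 := Nat.mul_le_mul_left _ hdeg
      _ < p + 1 := by omega
  let ev : A[X] →+* A := eval₂RingHom' (RingHom.id A) 1 fun a => Commute.one_right a
  have hev : ∀ q : A[X], ev q = q.eval 1 := fun q => rfl
  have h1 : (x₀ + x₁) ^ p = ∑ i ∈ Finset.range (p + 1), (Q ^ p).coeff i := by
    have h := map_pow ev Q p
    rw [hev, hev, eval_eq_sum_range' hdegp] at h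
    simp only [one_pow, mul_one] at h
    rw [h, hQ, eval_add, eval_C, eval_C_mul, eval_X, mul_one]
  have hc0 : (Q ^ p).coeff 0 = x₀ ^ p := by
    have h : (Q ^ p).coeff 0 = constantCoeff (Q ^ p) := rfl
    rw [h, map_pow]
    simp [hQ]
  have hcp : (Q ^ p).coeff p = x₁ ^ p := by
    have h := coeff_pow_of_natDegree_le (m := p) hdeg
    rw [mul_one] at h
    rw [h]
    simp [hQ]
  let κ : ZMod p →+* R := ZMod.castHom (dvd_refl p) R
  let W : (Fin (p - 1) → Bool) → A := fun t => PLie.bracketWord (PLie.pair x₀ x₁) x₁ (List.ofFn t)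
  let c : (Fin (p - 1) → Bool) → R :=
    fun t => κ ((Fintype.card {i // t i = false} : ZMod p)⁻¹)
  have hD : derivative (Q ^ p) = ∑ t : Fin (p - 1) → Bool, monomial (trues t) (W t) := by
    rw [hQ, derivative_pow_eq R, iter R]
  have hmid : ∀ i < p - 1,
      (Q ^ p).coeff (i + 1) = - ∑ t : Fin (p - 1) → Bool, if trues t = i then c t • W t else 0 := by
    intro i hi
    have h := congrArg (fun q => coeff q i) hD
    simp only [coeff_derivative, finsetSum_coeff, coeff_monomial] at h
    rw [← Nat.cast_add_one, ← Nat.cast_comm, ← nsmul_eq_mul,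
      ← Nat.cast_smul_eq_nsmul R] at h
    have hne : ((i + 1 : ℕ) : ZMod p) ≠ 0 := by
      rw [Ne, ZMod.natCast_eq_zero_iff]
      exact Nat.not_dvd_of_pos_of_lt (by omega) (by omega)
    have hk : κ ((i + 1 : ℕ) : ZMod p)⁻¹ * ((i + 1 : ℕ) : R) = 1 := by
      rw [← map_natCast κ, ← map_mul]
      exact (congrArg κ (inv_mul_cancel₀ hne)).trans (map_one κ)
    have h' := congrArg (fun a => κ ((i + 1 : ℕ) : ZMod p)⁻¹ • a) h
    simp only [smul_smul, hk, one_smul] at h'
    rw [h', Finset.smul_sum, ← Finset.sum_neg_distrib]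
    refine Finset.sum_congr rfl fun t _ => ?_
    split_ifs with ht
    · have hft := card_false_add_trues t
      have : (Fintype.card {i // t i = false} : ZMod p) = -((i + 1 : ℕ) : ZMod p) := by
        rw [eq_neg_iff_add_eq_zero, ← Nat.cast_add, ZMod.natCast_eq_zero_iff]
        exact dvd_of_eq (by omega)
      have e : (-((i + 1 : ℕ) : ZMod p))⁻¹ = -(((i + 1 : ℕ) : ZMod p)⁻¹) := inv_neg
      simp only [c, this, e, map_neg, neg_smul, neg_neg]
    · simp
  have hJ : PLie.jacobson R p x₀ x₁ =
      ∑ i ∈ Finset.range (p - 1), ∑ t : Fin (p - 1) → Bool,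
        if trues t = i then c t • W t else 0 := by
    rw [Finset.sum_comm]
    refine Finset.sum_congr rfl fun t _ => ?_
    rw [Finset.sum_ite_eq]
    split_ifs with ht
    · rfl
    · have hft := card_false_add_trues t
      have ht' : p - 1 ≤ trues t := by simpa using ht
      have h0 : Fintype.card {i // t i = false} = 0 := by omega
      simp [h0]
  have hr : Finset.range p = Finset.range (p - 1 + 1) := by rw [Nat.sub_add_cancel (by omega)]
  rw [h1, Finset.sum_range_succ, hcp, hr, Finset.sum_range_succ', hc0, hJ,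
    Finset.sum_congr rfl fun i hi => hmid i (Finset.mem_range.mp hi)]
  simp only [Finset.sum_neg_distrib]
  abel

end Formula

end Groth.Agent.Lib.PLie.Jacobson
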