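import Mathlib.Algebra.CharP.Lemmas
import Groth.Agent.Lib.PBW.Basic
import Groth.Agent.Lib.PLie.Jacobson
import Groth.Agent.Lib.PLie.Basic

/-!
# `p`-mappings on a free Lie algebra with prescribed values on a basis

If `L` is free with basis `b` and `(ad (b i))^p = ad (y i)` for all `i`, then there is exactly one
`p`-mapping with `b i ↦ y i`.
-/

set_option autoImplicit false

universe u v w

namespace Groth.Agent.Lib.PLie.Exists

open UniversalEnvelopingAlgebra
open Groth.Agent.Lib.PBW

attribute [local instance 100] LieRing.ofAssociativeRing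

variable {R : Type u} [CommRing R] {p : ℕ} [hp : Fact p.Prime] [CharP R p]
  {L : Type v} [LieRing L] [LieAlgebra R L] {κ : Type w} (b : Module.Basis κ R L) (y : κ → L)

/-- the central correction on the basis -/
noncomputable def c (i : κ) : UniversalEnvelopingAlgebra R L := ι R (b i) ^ p - ι R (y i)

/-- the central correction, extended `p`-semilinearly -/
noncomputable def C (x : L) : UniversalEnvelopingAlgebra R L :=
  (b.repr x).sum fun i r => r ^ p • c (p := p) b y i

lemma C_add (x x' : L) : C (p := p) b y (x + x') = C (p := p) b y x + C (p := p) b y x' := by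
  classical
  rw [C, map_add, Finsupp.sum_add_index]
  · rfl
  · intro i _; simp [zero_pow hp.out.ne_zero]
  · intro i _ r r'; rw [add_pow_char, add_smul]

omit [CharP R p] in
lemma C_smul (r : R) (x : L) : C (p := p) b y (r • x) = r ^ p • C (p := p) b y x := by
  rw [C, map_smul, Finsupp.sum_smul_index, C, Finsupp.smul_sum]
  · exact Finsupp.sum_congr fun i _ => by rw [mul_pow, smul_smul]
  · intro i; simp [zero_pow hp.out.ne_zero]

omit [CharP R p] in
lemma C_basis (i : κ) : C (p := p) b y (b i) = c (p := p) b y i := by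
  rw [C, b.repr_self, Finsupp.sum_single_index]
  · simp
  · simp [zero_pow hp.out.ne_zero]

lemma ι_pow_bracket (x z : L) :
    ι R x ^ p * ι R z - ι R z * ι R x ^ p = ι R ((LieAlgebra.ad R L x ^ p) z) := by
  rw [Basic.map_ad_pow (ι R) p x z, Jacobson.bracket_pow R p]

lemma c_comm (hy : ∀ i, LieAlgebra.ad R L (b i) ^ p = LieAlgebra.ad R L (y i)) (i : κ) (z : L) :
    Commute (c (p := p) b y i) (ι R z) := by
  have h := ι_pow_bracket (R := R) (p := p) (b i) z
  rw [hy i, LieAlgebra.ad_apply, PBW.Basic.ι_lie] at h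
  rw [Commute, SemiconjBy, c, sub_mul, mul_sub, ← sub_eq_zero]
  rw [← sub_eq_zero] at h
  rw [← h]
  abel

lemma C_comm (hy : ∀ i, LieAlgebra.ad R L (b i) ^ p = LieAlgebra.ad R L (y i)) (x z : L) :
    Commute (C (p := p) b y x) (ι R z) :=
  Commute.sum_left _ _ _ fun i _ => (c_comm b y hy i z).smul_left _

lemma exists_val (x : L) : ∃ z : L, ι R z = ι R x ^ p - C (p := p) b y x := by
  induction b.mem_span x using Submodule.span_induction with
  | mem w hw =>
    obtain ⟨i, rfl⟩ := hw
    exact ⟨y i, by rw [C_basis, c, sub_sub_cancel]⟩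
  | zero =>
    refine ⟨0, ?_⟩
    simp [C, zero_pow hp.out.ne_zero]
  | add u w _ _ hu hw =>
    obtain ⟨zu, hu⟩ := hu
    obtain ⟨zw, hw⟩ := hw
    refine ⟨zu + zw - PLie.jacobson R p u w, ?_⟩
    rw [← LieHom.coe_toLinearMap, map_sub, map_add]
    simp only [LieHom.coe_toLinearMap]
    rw [hu, hw, Basic.map_jacobson, C_add, ← LieHom.coe_toLinearMap, map_add]
    simp only [LieHom.coe_toLinearMap]
    rw [Jacobson.pow_add_eq R p]
    abel
  | smul r w _ hw =>
    obtain ⟨zw, hw⟩ := hw
    refine ⟨r ^ p • zw, ?_⟩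
    rw [← LieHom.coe_toLinearMap, map_smul, map_smul]
    simp only [LieHom.coe_toLinearMap]
    rw [hw, C_smul, smul_sub, smul_pow]

/-- the `p`-mapping with prescribed values on the basis -/
noncomputable def pmap (hy : ∀ i, LieAlgebra.ad R L (b i) ^ p = LieAlgebra.ad R L (y i)) :
    PLie.PMap R p L where
  toFun x := (exists_val (p := p) b y x).choose
  map_smul r x := by
    apply PBW.Basic.ι_injective b
    rw [(exists_val (p := p) b y (r • x)).choose_spec, C_smul, map_smul, map_smul]
    rw [(exists_val (p := p) b y x).choose_spec, smul_pow, smul_sub]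
  ad_map x := by
    refine LinearMap.ext fun z => ?_
    apply PBW.Basic.ι_injective b
    rw [LieAlgebra.ad_apply, PBW.Basic.ι_lie, (exists_val (p := p) b y x).choose_spec,
      ← ι_pow_bracket, sub_mul, mul_sub, (C_comm b y hy x z).eq]
    abel
  map_add x x' := by
    apply PBW.Basic.ι_injective b
    rw [(exists_val (p := p) b y (x + x')).choose_spec, map_sub, map_add,
      map_add]
    rw [(exists_val (p := p) b y x).choose_spec, (exists_val (p := p) b y x').choose_spec,
      Basic.map_jacobson, C_add, Jacobson.pow_add_eq R p]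
    abel

lemma pmap_basis (hy : ∀ i, LieAlgebra.ad R L (b i) ^ p = LieAlgebra.ad R L (y i)) (i : κ) :
    pmap b y hy (b i) = y i := by
  apply PBW.Basic.ι_injective b
  change ι R ((exists_val (p := p) b y (b i)).choose) = _
  rw [(exists_val (p := p) b y (b i)).choose_spec, C_basis, c, sub_sub_cancel]

theorem existsUnique (hy : ∀ i, LieAlgebra.ad R L (b i) ^ p = LieAlgebra.ad R L (y i)) :
    ∃! φ : PLie.PMap R p L, ∀ i, φ (b i) = y i :=
  ⟨pmap b y hy, pmap_basis b y hy, fun ψ hψ =>
    Basic.eq_of_eq_on_basis b fun i => by rw [hψ, pmap_basis]⟩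

/-- restrictability criterion on a basis -/
theorem nonempty_iff : Nonempty (PLie.PMap R p L) ↔
    ∀ i, ∃ z : L, LieAlgebra.ad R L (b i) ^ p = LieAlgebra.ad R L z := by
  refine ⟨fun ⟨φ⟩ i => ⟨φ (b i), (φ.ad_map _).symm⟩, fun h => ?_⟩
  choose z hz using h
  exact ⟨pmap b z hz⟩

end Groth.Agent.Lib.PLie.Exists
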