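import Mathlib.Algebra.Lie.Engel
import Mathlib.Algebra.Lie.Solvable
import Mathlib.RingTheory.Noetherian.Basic
import Groth.Agent.Lib.PLie.Basic

/-!
# The radical and nilradical of a restricted Lie algebra are stable under the `p`-mapping
-/

set_option autoImplicit false

universe u v

namespace Groth.Agent.Lib.PLie.Radical

variable {k : Type u} [CommRing k] {L : Type v} [LieRing L] [LieAlgebra k L]

lemma ad_pow_mem (I : LieIdeal k L) (x : L) (n : ℕ) {w : L} (hw : w ∈ I) :
    (LieAlgebra.ad k L x ^ n) w ∈ I := by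
  induction n with
  | zero => simpa using hw
  | succ n ih => rw [pow_succ', Module.End.mul_apply]; exact lie_mem_right k L I x _ ih

lemma lie_map_mem {p : ℕ} [hp : Fact p.Prime] [CharP k p] (φ : PLie.PMap k p L) (I : LieIdeal k L)
    {x : L} (hx : x ∈ I) (l : L) : ⁅φ x, l⁆ ∈ I := by
  rw [Basic.lie_map, Basic.ad_pow_pred]
  exact ad_pow_mem I x _ (lie_mem_left k L I x l hx)

/-- the ideal of elements bracketing everything into `I` -/
def outer (I : LieIdeal k L) : LieIdeal k L where
  carrier := {z | ∀ l : L, ⁅z, l⁆ ∈ I}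
  add_mem' hz hw l := by rw [add_lie]; exact add_mem (hz l) (hw l)
  zero_mem' l := by rw [zero_lie]; exact zero_mem _
  smul_mem' c z hz l := by rw [smul_lie]; exact I.smul_mem c (hz l)
  lie_mem {m z} hz l := lie_mem_left k L I _ l (by rw [← lie_skew]; exact neg_mem (hz m))

lemma pmap_mem_radical {p : ℕ} [hp : Fact p.Prime] [CharP k p] [IsNoetherian k L]
    (φ : PLie.PMap k p L) {x : L} (hx : x ∈ LieAlgebra.radical k L) :
    φ x ∈ LieAlgebra.radical k L := by
  set Z := outer (LieAlgebra.radical k L) with hZ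
  suffices h : Z ≤ LieAlgebra.radical k L from h (lie_map_mem φ _ hx)
  rw [← LieAlgebra.LieIdeal.solvable_iff_le_radical]
  obtain ⟨n, hn⟩ := LieAlgebra.IsSolvable.solvable k (LieAlgebra.radical k L)
  rw [LieIdeal.derivedSeries_eq_bot_iff] at hn
  refine LieAlgebra.IsSolvable.mk (R := k) (k := n + 1) ?_
  rw [LieIdeal.derivedSeries_eq_bot_iff, LieAlgebra.derivedSeriesOfIdeal_add, ← le_bot_iff, ← hn]
  refine LieAlgebra.derivedSeriesOfIdeal_mono ?_ n
  rw [LieAlgebra.derivedSeriesOfIdeal_succ, LieAlgebra.derivedSeriesOfIdeal_zero,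
    LieSubmodule.lie_le_iff]
  exact fun a ha b _ => ha b

lemma isNilpotent_iff [IsNoetherian k L] (I : LieIdeal k L) :
    LieRing.IsNilpotent I ↔ ∀ x ∈ I, IsNilpotent (LieAlgebra.ad k L x) := by
  haveI : IsNoetherian k I := isNoetherian_submodule' I.toSubmodule
  rw [LieAlgebra.isNilpotent_iff_forall (R := k)]
  refine ⟨fun h x hx => ?_, fun h x => ?_⟩
  · obtain ⟨n, hn⟩ := h ⟨x, hx⟩
    refine ⟨n + 1, LinearMap.ext fun l => ?_⟩
    rw [pow_succ, Module.End.mul_apply, LieAlgebra.ad_apply]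
    have := Basic.map_ad_pow I.incl n ⟨x, hx⟩ ⟨⁅x, l⁆, lie_mem_left k L I x l hx⟩
    rw [hn] at this
    exact this.symm
  · obtain ⟨n, hn⟩ := h x.1 x.2
    refine ⟨n, LinearMap.ext fun w => Subtype.ext ?_⟩
    have h1 := Basic.map_ad_pow I.incl n x w
    exact h1.trans (by rw [show I.incl x = x.1 from rfl, hn]; rfl)

lemma pmap_mem_nilradical {p : ℕ} [hp : Fact p.Prime] [CharP k p] [IsNoetherian k L]
    (φ : PLie.PMap k p L) (N : LieIdeal k L) (hN : LieRing.IsNilpotent N)
    (hmax : ∀ I : LieIdeal k L, LieRing.IsNilpotent I → I ≤ N) {x : L} (hx : x ∈ N) :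
    φ x ∈ N := by
  have hnil : LieModule.IsNilpotent N L :=
    (LieModule.isNilpotent_iff_forall' (R := k)).mpr fun z =>
      (isNilpotent_iff N).mp hN z.1 z.2
  obtain ⟨n, hn⟩ := (LieModule.isNilpotent_iff k N L).mp hnil
  let F : ℕ → LieSubmodule k N L := fun j => LieModule.lowerCentralSeries k N L j
  have hstep : ∀ (z : L), z ∈ N → ∀ (j : ℕ) (w : L), w ∈ F j → ⁅z, w⁆ ∈ F (j + 1) := by
    intro z hz j w hw
    change ⁅z, w⁆ ∈ LieModule.lowerCentralSeries k N L (j + 1)
    rw [LieModule.lowerCentralSeries_succ]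
    exact LieSubmodule.lie_mem_lie (LieSubmodule.mem_top (⟨z, hz⟩ : N)) hw
  let W : LieIdeal k L :=
    { carrier := {z | (∀ l : L, ⁅z, l⁆ ∈ N) ∧ ∀ (j : ℕ) (w : L), w ∈ F j → ⁅z, w⁆ ∈ F (j + 1)}
      add_mem' := fun {a b} ha hb => ⟨fun l => by rw [add_lie]; exact add_mem (ha.1 l) (hb.1 l),
        fun j w hw => by rw [add_lie]; exact add_mem (ha.2 j w hw) (hb.2 j w hw)⟩
      zero_mem' := ⟨fun l => by rw [zero_lie]; exact zero_mem _,
        fun j w _ => by rw [zero_lie]; exact zero_mem _⟩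
      smul_mem' := fun c z hz => ⟨fun l => by rw [smul_lie]; exact N.smul_mem c (hz.1 l),
        fun j w hw => by rw [smul_lie]; exact (F (j + 1)).smul_mem c (hz.2 j w hw)⟩
      lie_mem := fun {m z} hz => by
        have hmem : ⁅m, z⁆ ∈ N := by rw [← lie_skew]; exact neg_mem (hz.1 m)
        exact ⟨fun l => lie_mem_left k L N _ l hmem, hstep _ hmem⟩ }
  have hW : LieRing.IsNilpotent W := by
    refine (isNilpotent_iff W).mpr fun z hz => ⟨n, LinearMap.ext fun w => ?_⟩
    have h : ∀ j, (LieAlgebra.ad k L z ^ j) w ∈ F j := by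
      intro j
      induction j with
      | zero => exact LieSubmodule.mem_top _
      | succ j ih => rw [pow_succ', Module.End.mul_apply]; exact hz.2 j _ ih
    have := h n
    simpa [F, hn] using this
  refine hmax W hW ⟨lie_map_mem φ N hx, fun j w hw => ?_⟩
  have h : ∀ m, (LieAlgebra.ad k L x ^ m) w ∈ F (j + m) := by
    intro m
    induction m with
    | zero => simpa using hw
    | succ m ih => rw [pow_succ', Module.End.mul_apply]; exact hstep x hx _ _ ih
  rw [Basic.lie_map]
  exact LieModule.antitone_lowerCentralSeries k N L (Nat.add_le_add_left hp.out.one_le j) (h p)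

end Groth.Agent.Lib.PLie.Radical
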