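import Mathlib.Data.List.FinRange
import Mathlib.LinearAlgebra.Quotient.Basic
import Mathlib.RingTheory.Finiteness.Basic
import Mathlib.Data.List.NodupEquivFin
import Mathlib.Data.Set.Finite.List
import Groth.Agent.Lib.PLie.Exists

/-!
# The restricted enveloping algebra of a finite free restricted Lie algebra

The quotient of `U(L)` by the central elements `ι (b i)^p - ι (φ (b i))` is finite and receives `L`
injectively.
-/

set_option autoImplicit false

universe u v

namespace Groth.Agent.Lib.PLie.Restricted

open UniversalEnvelopingAlgebra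
open Groth.Agent.Lib.PBW

attribute [local instance 100] LieRing.ofAssociativeRing

variable {R : Type u} [CommRing R] {L : Type v} [LieRing L] [LieAlgebra R L]

section Filtration

variable {κ : Type} [LinearOrder κ] (b : Module.Basis κ R L)

/-- degree strictly less than `d` -/
noncomputable def S' : ℕ → Submodule R (UniversalEnvelopingAlgebra R L)
  | 0 => ⊥
  | d + 1 => PBW.Basic.S b d

lemma S'_le (d : ℕ) : S' b d ≤ PBW.Basic.S b d := by
  cases d with
  | zero => exact bot_le
  | succ d => exact PBW.Basic.S_mono b d.le_succ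

lemma mul_mem {m n : ℕ} {x z : UniversalEnvelopingAlgebra R L} (hx : x ∈ PBW.Basic.S b m)
    (hz : z ∈ PBW.Basic.S b n) : x * z ∈ PBW.Basic.S b (m + n) := by
  induction hx using Submodule.span_induction with
  | mem w hw =>
    obtain ⟨l, ⟨-, hl⟩, rfl⟩ := hw
    refine PBW.Basic.S_mono b (Nat.add_le_add_right hl n) ?_
    clear hl
    induction l with
    | nil => simpa [PBW.Basic.mon] using hz
    | cons i l ih =>
      rw [PBW.Basic.mon_cons, mul_assoc, List.length_cons, Nat.add_right_comm]
      exact PBW.Basic.mul_mem b _ _ ih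
  | zero => rw [zero_mul]; exact zero_mem _
  | add p q _ _ hp hq => rw [add_mul]; exact add_mem hp hq
  | smul c p _ hp => rw [smul_mul_assoc]; exact Submodule.smul_mem _ _ hp

/-- `x` has degree at most `d` and the same top part as `x'` -/
def Cong (d : ℕ) (x x' : UniversalEnvelopingAlgebra R L) : Prop :=
  x ∈ PBW.Basic.S b d ∧ x' ∈ PBW.Basic.S b d ∧ x - x' ∈ S' b d

lemma cong_refl {d : ℕ} {x : UniversalEnvelopingAlgebra R L} (hx : x ∈ PBW.Basic.S b d) :
    Cong b d x x := ⟨hx, hx, by simp⟩

lemma mem_gen (x : L) : ι R x ∈ PBW.Basic.S b 1 := by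
  have h1 : (1 : UniversalEnvelopingAlgebra R L) ∈ PBW.Basic.S b 0 := by
    have := PBW.Basic.mon_mem_S b (l := []) List.Pairwise.nil.sortedLE (Nat.le_refl 0)
    simpa [PBW.Basic.mon] using this
  simpa using PBW.Basic.mul_mem b 0 x h1

lemma cong_one : Cong b 0 1 1 := by
  refine cong_refl b ?_
  have := PBW.Basic.mon_mem_S b (l := []) List.Pairwise.nil.sortedLE (Nat.le_refl 0)
  simpa [PBW.Basic.mon] using this

lemma Cong.mul {m n : ℕ} {x x' z z' : UniversalEnvelopingAlgebra R L} (h : Cong b m x x')
    (h' : Cong b n z z') : Cong b (m + n) (x * z) (x' * z') := by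
  refine ⟨mul_mem b h.1 h'.1, mul_mem b h.2.1 h'.2.1, ?_⟩
  have e : x * z - x' * z' = (x - x') * z + x' * (z - z') := by rw [sub_mul, mul_sub]; abel
  rw [e]
  refine add_mem ?_ ?_
  · cases m with
    | zero => simp [(Submodule.mem_bot R).mp h.2.2]
    | succ m => rw [Nat.succ_add]; exact mul_mem b h.2.2 h'.1
  · cases n with
    | zero => simp [(Submodule.mem_bot R).mp h'.2.2]
    | succ n => rw [← Nat.add_assoc]; exact mul_mem b h.2.1 h'.2.2

lemma Cong.pow {m : ℕ} {x x' : UniversalEnvelopingAlgebra R L} (h : Cong b m x x') :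
    ∀ q : ℕ, Cong b (q * m) (x ^ q) (x' ^ q) := by
  intro q
  induction q with
  | zero => simpa using cong_one b
  | succ q ih => rw [pow_succ, pow_succ, Nat.succ_mul]; exact ih.mul b h

lemma cong_prod {α : Type} (l : List α) (d : α → ℕ)
    (f g : α → UniversalEnvelopingAlgebra R L) (h : ∀ a ∈ l, Cong b (d a) (f a) (g a)) :
    Cong b (l.map d).sum (l.map f).prod (l.map g).prod := by
  induction l with
  | nil => simpa using cong_one b
  | cons a l ih =>
    simp only [List.map_cons, List.sum_cons, List.prod_cons]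
    exact (h a List.mem_cons_self).mul b (ih fun a ha => h a (List.mem_cons_of_mem _ ha))

end Filtration

variable {p : ℕ} [hp : Fact p.Prime] [CharP R p] {n : ℕ} (b : Module.Basis (Fin n) R L)
  (φ : PLie.PMap R p L)

/-- the central element attached to the `i`-th basis vector -/
noncomputable def c (i : Fin n) : UniversalEnvelopingAlgebra R L :=
  Exists.c (p := p) b (fun j => φ (b j)) i

lemma hy (i : Fin n) : LieAlgebra.ad R L (b i) ^ p = LieAlgebra.ad R L (φ (b i)) :=
  (φ.ad_map _).symm

lemma c_central (i : Fin n) (u : UniversalEnvelopingAlgebra R L) : Commute (c b φ i) u := by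
  refine PBW.Basic.induction (motive := fun u => Commute (c b φ i) u) ?_ ?_ ?_ ?_ u
  · exact fun r => (Algebra.commutes r _).symm
  · exact fun x => Exists.c_comm b _ (hy b φ) i x
  · exact fun _ _ h h' => h.mul_right h'
  · exact fun _ _ h h' => h.add_right h'

/-- monomials adapted to the centre -/
noncomputable def Ψ (l : List (Fin n)) : UniversalEnvelopingAlgebra R L :=
  ((List.finRange n).map fun i => ι R (b i) ^ (l.count i % p) * c b φ i ^ (l.count i / p)).prod

lemma sorted_eq (l : List (Fin n)) (hl : l.SortedLE) :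
    l = (List.finRange n).flatMap fun i => List.replicate (l.count i) i := by
  refine List.Perm.eq_of_pairwise' hl.pairwise ?_ ?_
  · refine List.pairwise_flatMap.mpr ⟨fun i _ => List.pairwise_replicate.mpr (Or.inr le_rfl),
      (List.pairwise_lt_finRange n).imp fun {i j} hij x hx y hy => ?_⟩
    rw [List.eq_of_mem_replicate hx, List.eq_of_mem_replicate hy]
    exact hij.le
  · rw [List.perm_iff_count]
    intro a
    rw [List.count_flatMap]
    simp only [List.count_replicate, Function.comp_def, beq_iff_eq]
    rw [← Fin.sum_univ_def]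
    simp

lemma mon_eq (l : List (Fin n)) (hl : l.SortedLE) :
    PBW.Basic.mon b l = ((List.finRange n).map fun i => ι R (b i) ^ l.count i).prod := by
  conv_lhs => rw [sorted_eq l hl]
  unfold PBW.Basic.mon
  induction List.finRange n with
  | nil => simp
  | cons i r ih =>
    rw [List.flatMap_cons, List.map_append, List.prod_append, ih, List.map_replicate,
      List.prod_replicate, List.map_cons, List.prod_cons]

lemma cong_Ψ (l : List (Fin n)) (hl : l.SortedLE) :
    Cong b l.length (PBW.Basic.mon b l) (Ψ b φ l) := by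
  have hlen : ((List.finRange n).map fun i => l.count i).sum = l.length := by
    conv_rhs => rw [sorted_eq l hl]
    simp [List.length_flatMap]
  rw [mon_eq b l hl, ← hlen]
  refine cong_prod b _ _ _ _ fun i _ => ?_
  have hdeg : l.count i % p + l.count i / p * p = l.count i := Nat.mod_add_div' _ _
  conv => arg 2; rw [← hdeg]
  conv => arg 3; rw [← hdeg, pow_add, pow_mul']
  refine Cong.mul b (by simpa using (cong_refl b (mem_gen b (b i))).pow b (l.count i % p)) ?_
  refine Cong.pow b ?_ _
  have hpow : ι R (b i) ^ p ∈ PBW.Basic.S b p := by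
    simpa using ((cong_refl b (mem_gen b (b i))).pow b p).1
  obtain ⟨q, hq⟩ : ∃ q, p = q + 1 + 1 := ⟨p - 2, by have := hp.out.two_le; omega⟩
  have hy1 : ι R (φ (b i)) ∈ PBW.Basic.S b (q + 1) :=
    PBW.Basic.S_mono b (by omega) (mem_gen b _)
  refine ⟨hpow, sub_mem hpow (PBW.Basic.S_mono b (by omega) hy1), ?_⟩
  rw [c, Exists.c, sub_sub_cancel]
  have : S' b p = PBW.Basic.S b (q + 1) := by rw [hq]; rfl
  rw [this]
  exact hy1

/-- the change from PBW monomials to adapted monomials -/
noncomputable def T : UniversalEnvelopingAlgebra R L →ₗ[R] UniversalEnvelopingAlgebra R L :=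
  (PBW.Basic.basis b).constr R fun l => Ψ b φ l.1

lemma T_mon (l : List (Fin n)) (hl : l.SortedLE) : T b φ (PBW.Basic.mon b l) = Ψ b φ l := by
  have : PBW.Basic.mon b l = PBW.Basic.basis b ⟨l, hl⟩ := (PBW.Basic.basis_apply b ⟨l, hl⟩).symm
  rw [this, T, Module.Basis.constr_basis]

lemma T_sub_mem {d : ℕ} {u : UniversalEnvelopingAlgebra R L} (hu : u ∈ PBW.Basic.S b d) :
    T b φ u - u ∈ S' b d := by
  induction hu using Submodule.span_induction with
  | mem w hw =>
    obtain ⟨l, ⟨hl, hld⟩, rfl⟩ := hw
    have h := (cong_Ψ b φ l hl).2.2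
    rw [T_mon b φ l hl, ← neg_mem_iff, neg_sub]
    rcases Nat.eq_or_lt_of_le hld with rfl | hlt
    · exact h
    · obtain ⟨e, rfl⟩ : ∃ e, d = e + 1 := ⟨d - 1, by omega⟩
      exact PBW.Basic.S_mono b (Nat.le_of_lt_succ hlt) (S'_le b _ h)
  | zero => simp
  | add p q _ _ hp hq => rw [map_add, add_sub_add_comm]; exact add_mem hp hq
  | smul c p _ hp => rw [map_smul, ← smul_sub]; exact Submodule.smul_mem _ _ hp

lemma exists_deg (u : UniversalEnvelopingAlgebra R L) : ∃ d, u ∈ PBW.Basic.S b d := by
  have hu := PBW.Basic.span_mon b (Submodule.mem_top (x := u))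
  induction hu using Submodule.span_induction with
  | mem w hw =>
    obtain ⟨l, rfl⟩ := hw
    exact ⟨l.1.length, PBW.Basic.mon_mem_S b l.2 le_rfl⟩
  | zero => exact ⟨0, zero_mem _⟩
  | add p q _ _ hp hq =>
    obtain ⟨i, hi⟩ := hp
    obtain ⟨j, hj⟩ := hq
    exact ⟨max i j, add_mem (PBW.Basic.S_mono b (le_max_left i j) hi)
      (PBW.Basic.S_mono b (le_max_right i j) hj)⟩
  | smul c p _ hp =>
    obtain ⟨i, hi⟩ := hp
    exact ⟨i, Submodule.smul_mem _ c hi⟩

lemma T_injective : Function.Injective (T b φ) := by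
  rw [injective_iff_map_eq_zero]
  intro u hu
  obtain ⟨d, hd⟩ := exists_deg b u
  induction d with
  | zero =>
    have h := T_sub_mem b φ hd
    rw [hu, zero_sub, neg_mem_iff] at h
    exact (Submodule.mem_bot R).mp h
  | succ d ih =>
    have h := T_sub_mem b φ hd
    rw [hu, zero_sub, neg_mem_iff] at h
    exact ih h

lemma T_surjective : Function.Surjective (T b φ) := by
  intro u
  obtain ⟨d, hd⟩ := exists_deg b u
  induction d generalizing u with
  | zero =>
    have h := T_sub_mem b φ hd
    exact ⟨u, sub_eq_zero.mp ((Submodule.mem_bot R).mp h)⟩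
  | succ d ih =>
    obtain ⟨v, hv⟩ := ih _ (T_sub_mem b φ hd)
    exact ⟨u - v, by rw [map_sub, hv]; abel⟩

/-- the adapted basis -/
noncomputable def Ψbasis :
    Module.Basis {l : List (Fin n) // l.SortedLE} R (UniversalEnvelopingAlgebra R L) :=
  (PBW.Basic.basis b).map (LinearEquiv.ofBijective (T b φ) ⟨T_injective b φ, T_surjective b φ⟩)

lemma Ψbasis_apply (l : {l : List (Fin n) // l.SortedLE}) : Ψbasis b φ l = Ψ b φ l.1 := by
  rw [Ψbasis, Module.Basis.map_apply]
  change T b φ _ = _
  rw [T, Module.Basis.constr_basis]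

/-- the left ideal generated by the central elements -/
noncomputable def J : Submodule (UniversalEnvelopingAlgebra R L) (UniversalEnvelopingAlgebra R L) :=
  Submodule.span (UniversalEnvelopingAlgebra R L) (Set.range (c b φ))

/-- the span of adapted monomials that involve a central element -/
noncomputable def N : Submodule R (UniversalEnvelopingAlgebra R L) :=
  Submodule.span R (Ψbasis b φ '' {l | ∃ i, p ≤ l.1.count i})

lemma prod_mul_central {α : Type} [DecidableEq α] {M : Type v} [Monoid M] (r : List α)
    (hr : r.Nodup) (f g : α → M) (a : α) (z : M) (hz : ∀ x, Commute z x) (ha : a ∈ r)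
    (hga : g a = z * f a) (hg : ∀ i, i ≠ a → g i = f i) :
    (r.map g).prod = z * (r.map f).prod := by
  induction r with
  | nil => simp at ha
  | cons i r ih =>
    rw [List.nodup_cons] at hr
    simp only [List.map_cons, List.prod_cons]
    rcases eq_or_ne i a with rfl | hia
    · rw [hga, mul_assoc, List.map_congr_left fun j hj =>
        hg j fun h => hr.1 (h ▸ hj)]
    · rw [ih hr.2 ((List.mem_cons.mp ha).resolve_left fun h => hia h.symm), hg i hia,
        ← mul_assoc, ← (hz (f i)).eq, mul_assoc]

lemma exists_Ψ_mul (i : Fin n) (l : List (Fin n)) :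
    ∃ l' : List (Fin n), l'.SortedLE ∧ p ≤ l'.count i ∧ c b φ i * Ψ b φ l = Ψ b φ l' := by
  let l' := (List.finRange n).flatMap fun j =>
    List.replicate (if j = i then l.count j + p else l.count j) j
  have hcount : ∀ j, l'.count j = if j = i then l.count j + p else l.count j := by
    intro j
    rw [List.count_flatMap]
    simp only [List.count_replicate, Function.comp_def, beq_iff_eq]
    rw [← Fin.sum_univ_def]
    simp
  refine ⟨l', List.Pairwise.sortedLE (List.pairwise_flatMap.mpr
    ⟨fun j _ => List.pairwise_replicate.mpr (Or.inr le_rfl),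
      (List.pairwise_lt_finRange n).imp fun {j k} hjk x hx y hy => ?_⟩), ?_, ?_⟩
  · rw [List.eq_of_mem_replicate hx, List.eq_of_mem_replicate hy]
    exact hjk.le
  · rw [hcount, if_pos rfl]; omega
  · refine (prod_mul_central _ (List.nodup_finRange n) _ _ i (c b φ i) (c_central b φ i)
      (List.mem_finRange i) ?_ ?_).symm
    · rw [hcount, if_pos rfl, Nat.add_mod_right, Nat.add_div_right _ hp.out.pos, pow_succ',
        ← mul_assoc, ← mul_assoc, (c_central b φ i _).eq]
    · intro j hj
      rw [hcount, if_neg hj]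

lemma J_le_N {u : UniversalEnvelopingAlgebra R L} (hu : u ∈ J b φ) : u ∈ N b φ := by
  suffices h : ∀ w, w * u ∈ N b φ by simpa using h 1
  induction hu using Submodule.span_induction with
  | mem x hx =>
    obtain ⟨i, rfl⟩ := hx
    intro w
    rw [← (c_central b φ i w).eq]
    obtain ⟨v, rfl⟩ : ∃ v, T b φ v = w := T_surjective b φ w
    induction PBW.Basic.span_mon b (Submodule.mem_top (x := v)) using Submodule.span_induction with
    | mem z hz =>
      obtain ⟨l, rfl⟩ := hz
      obtain ⟨l', hl', hcount, heq⟩ := exists_Ψ_mul b φ i l.1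
      rw [T_mon b φ l.1 l.2, heq]
      exact Submodule.subset_span ⟨⟨l', hl'⟩, ⟨i, hcount⟩, Ψbasis_apply b φ _⟩
    | zero => simp
    | add x z _ _ hx hz => rw [map_add, mul_add]; exact add_mem hx hz
    | smul r x _ hx => rw [map_smul, mul_smul_comm]; exact Submodule.smul_mem _ _ hx
  | zero => simp
  | add x z _ _ hx hz => intro w; rw [mul_add]; exact add_mem (hx w) (hz w)
  | smul a x _ hx => intro w; rw [smul_eq_mul, ← mul_assoc]; exact hx _

lemma eq_zero_of_ι_mem {x : L} (hx : ι R x ∈ J b φ) : x = 0 := by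
  have h := J_le_N b φ hx
  rw [N, Module.Basis.mem_span_image] at h
  have hsingle : ∀ i : Fin n, ι R (b i) = Ψbasis b φ ⟨[i], (List.pairwise_singleton _ i).sortedLE⟩ := by
    intro i
    rw [Ψbasis_apply]
    have h1 : PBW.Basic.mon b [i] = ι R (b i) := by simp [PBW.Basic.mon]
    rw [← h1, mon_eq b [i] (List.pairwise_singleton _ i).sortedLE, Ψ]
    congr 1
    refine List.map_congr_left fun j _ => ?_
    have hj : [i].count j < p :=
      lt_of_le_of_lt List.count_le_length (by simpa using hp.out.one_lt)
    rw [Nat.mod_eq_of_lt hj, Nat.div_eq_of_lt hj, pow_zero, mul_one]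
  apply b.repr.injective
  rw [map_zero]
  ext i
  have hrepr : (Ψbasis b φ).repr (ι R x) ⟨[i], (List.pairwise_singleton _ i).sortedLE⟩ =
      b.repr x i := by
    conv_lhs => rw [← b.sum_repr x]
    rw [← LieHom.coe_toLinearMap, map_sum, map_sum, Finsupp.finsetSum_apply]
    simp only [map_smul, LieHom.coe_toLinearMap, hsingle, Module.Basis.repr_self,
      Finsupp.smul_apply]
    rw [Finset.sum_eq_single i]
    · simp
    · intro j _ hj
      rw [Finsupp.single_eq_of_ne, smul_zero]
      simpa [Subtype.ext_iff] using Ne.symm hj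
    · simp
  rw [← hrepr, Finsupp.zero_apply]
  by_contra hne
  obtain ⟨j, hj⟩ := h (Finsupp.mem_support_iff.mpr hne)
  change p ≤ [i].count j at hj
  have : [i].count j ≤ 1 := List.count_le_length
  have := hp.out.two_le
  omega

lemma C_mem_J (x : L) : Exists.C (p := p) b (fun j => φ (b j)) x ∈ J b φ := by
  refine Submodule.sum_mem _ fun i _ => ?_
  change (b.repr x i) ^ p • c b φ i ∈ J b φ
  rw [Algebra.smul_def]
  exact Submodule.smul_mem _ _ (Submodule.subset_span ⟨i, rfl⟩)

lemma ι_pow_sub_mem (x : L) : ι R x ^ p - ι R (φ x) ∈ J b φ := by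
  have h1 : φ = Exists.pmap b (fun j => φ (b j)) (hy b φ) :=
    Basic.eq_of_eq_on_basis b fun i => (Exists.pmap_basis b _ (hy b φ) i).symm
  have h2 := (Exists.exists_val (p := p) b (fun j => φ (b j)) x).choose_spec
  have h3 : φ x = (Exists.exists_val (p := p) b (fun j => φ (b j)) x).choose := by
    conv_lhs => rw [h1]
    rfl
  rw [h3, h2, sub_sub_cancel]
  exact C_mem_J b φ x

/-- the restricted enveloping algebra as a module over itself -/
abbrev u₀ := UniversalEnvelopingAlgebra R L ⧸ J b φ

lemma finite : Module.Finite R (u₀ b φ) := by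
  classical
  let F : Set {l : List (Fin n) // l.SortedLE} := {l | ∀ i, l.1.count i < p}
  have hF : F.Finite := by
    refine Set.Finite.of_finite_image ((List.finite_length_le (Fin n) (n * p)).subset ?_)
      Subtype.val_injective.injOn
    rintro _ ⟨l, hl, rfl⟩
    change l.1.length ≤ n * p
    rw [sorted_eq l.1 l.2, List.length_flatMap]
    refine (List.sum_le_card_nsmul _ p ?_).trans (by simp)
    intro y hy
    obtain ⟨i, -, rfl⟩ := List.mem_map.mp hy
    simpa using (hl i).le
  haveI : Finite F := hF.to_subtype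
  let q : UniversalEnvelopingAlgebra R L →ₗ[R] u₀ b φ := (J b φ).mkQ.restrictScalars R
  refine ⟨?_⟩
  rw [show (⊤ : Submodule R (u₀ b φ)) = Submodule.span R ((fun l => q (Ψbasis b φ l)) '' F) from ?_]
  · exact Submodule.fg_span (hF.image _)
  refine (eq_top_iff.mpr fun z hz => ?_).symm
  clear hz
  obtain ⟨v, rfl⟩ := (J b φ).mkQ_surjective z
  change q v ∈ _
  induction (Ψbasis b φ).mem_span v using Submodule.span_induction with
  | mem w hw =>
    obtain ⟨l, rfl⟩ := hw
    by_cases hl : l ∈ F
    · exact Submodule.subset_span ⟨l, hl, rfl⟩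
    · have hmem : Ψbasis b φ l ∈ J b φ := by
        simp only [F, Set.mem_ofPred_eq, not_forall, not_lt] at hl
        obtain ⟨i, hi⟩ := hl
        rw [Ψbasis_apply, Ψ]
        have hq : l.1.count i / p = l.1.count i / p - 1 + 1 := by
          have := Nat.div_pos hi hp.out.pos; omega
        let g : Fin n → UniversalEnvelopingAlgebra R L := fun j =>
          ι R (b j) ^ (l.1.count j % p) * c b φ j ^ (if j = i then l.1.count j / p - 1 else l.1.count j / p)
        rw [prod_mul_central _ (List.nodup_finRange n) g _ i (c b φ i) (c_central b φ i)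
          (List.mem_finRange i) ?_ (fun j hj => by simp [g, hj]), (c_central b φ i _).eq]
        · exact Submodule.smul_mem _ _ (Submodule.subset_span ⟨i, rfl⟩)
        · simp only [g, if_true]
          rw [hq, pow_succ', ← mul_assoc, ← mul_assoc, (c_central b φ i _).eq, Nat.add_sub_cancel]
      have : q (Ψbasis b φ l) = 0 := (Submodule.Quotient.mk_eq_zero _).mpr hmem
      rw [this]
      exact zero_mem _
  | zero => simp
  | add x z _ _ hx hz => rw [map_add]; exact add_mem hx hz
  | smul r x _ hx => rw [map_smul]; exact Submodule.smul_mem _ _ hx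

/-- the representation of `L` on the restricted enveloping algebra -/
noncomputable def rep : L →ₗ[R] Module.End R (u₀ b φ) :=
  (Algebra.lsmul R R (u₀ b φ)).toLinearMap.comp (ι R).toLinearMap

lemma rep_eq (x : L) : rep b φ x = Algebra.lsmul R R (u₀ b φ) (ι R x) := rfl

lemma rep_injective : Function.Injective (rep b φ) := by
  rw [injective_iff_map_eq_zero]
  intro x hx
  refine eq_zero_of_ι_mem b φ ?_
  have h := congrArg (fun g : Module.End R (u₀ b φ) => g (Submodule.Quotient.mk 1)) hx
  rw [rep_eq] at h
  change Submodule.Quotient.mk (ι R x * 1) = 0 at h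
  rwa [mul_one, Submodule.Quotient.mk_eq_zero] at h

lemma rep_lie (x y : L) : rep b φ ⁅x, y⁆ = rep b φ x * rep b φ y - rep b φ y * rep b φ x := by
  rw [rep_eq, rep_eq, rep_eq, PBW.Basic.ι_lie, map_sub, map_mul, map_mul]

lemma rep_pow (x : L) : rep b φ (φ x) = rep b φ x ^ p := by
  rw [rep_eq, rep_eq, ← map_pow, eq_comm, ← sub_eq_zero, ← map_sub]
  refine LinearMap.ext fun z => ?_
  obtain ⟨v, rfl⟩ := (J b φ).mkQ_surjective z
  change Submodule.Quotient.mk ((ι R x ^ p - ι R (φ x)) * v) = 0
  rw [Submodule.Quotient.mk_eq_zero]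
  have h : ∀ w ∈ J b φ, w * v ∈ J b φ := by
    intro w hw
    induction hw using Submodule.span_induction with
    | mem s hs =>
      obtain ⟨i, rfl⟩ := hs
      rw [(c_central b φ i v).eq]
      exact Submodule.smul_mem _ _ (Submodule.subset_span ⟨i, rfl⟩)
    | zero => simp
    | add s t _ _ hs ht => rw [add_mul]; exact add_mem hs ht
    | smul a s _ hs => rw [smul_eq_mul, mul_assoc]; exact Submodule.smul_mem _ a hs
  exact h _ (ι_pow_sub_mem b φ x)

end Groth.Agent.Lib.PLie.Restricted
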